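import Mathlib

/-!
# THEOREM TV_q (#21557 of helper126; contains THEOREM T1 #20395 of helper379 and LEMMA XL (a), (b) of helper329), part 1

Pure module level.  `H` acts on `M` (exponent 2), `K` is a finite field of characteristic 2, `Y` a `K`-space, `L` a set of
LABELS `i : Y →+ M` (the points are their images), `H`-invariant, one class up to scalars; (C2) and 'two points meet in 0'.

* `Th H i` : the maps `t : M →+ Y` with `t ∘ i = 0` and `m ↦ m + i (t m)` in `H`;
* `TV` : the structure;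
* `TV.dich` : `t ∘ j` is zero or injective;  `TV.mem_comp` : `(1 + i t)(1 + j s)` has square `1 + i t j s` if `s ∘ i = 0`;
* `TV.exists_mut` : **(2) MUTUALITY**.
-/

set_option autoImplicit false

namespace Cfsg.Agent.Omega.NO3b.TVq

/-- the maps `t : M →+ Y` with `t ∘ i = 0` and `m ↦ m + i (t m)` in `H` -/
def Th (H : Type*) [Group H] {Y M : Type*} [AddCommGroup Y] [AddCommGroup M] [DistribMulAction H M] (i : Y →+ M) :
    Set (M →+ Y) :=
  {t | (∀ y, t (i y) = 0) ∧ ∃ x : H, ∀ m, x • m = m + i (t m)}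

/-- labels of points -/
structure TV (K H : Type*) [Field K] [Group H] {Y M : Type*} [AddCommGroup Y] [Module K Y] [AddCommGroup M]
    [DistribMulAction H M] (L : Set (Y →+ M)) : Prop where
  char : (1 : K) + 1 = 0
  two : ∀ m : M, m + m = 0
  faith : ∀ h : H, (∀ m : M, h • m = m) → h = 1
  inj : ∀ i ∈ L, ∀ y, i y = 0 → y = 0
  conj : ∀ i ∈ L, ∀ h : H, ∃ j ∈ L, ∀ y, j y = h • i y
  meet : ∀ i ∈ L, ∀ j ∈ L, ∀ y z, y ≠ 0 → i y = j z → ∃ c : K, c ≠ 0 ∧ ∀ w, j w = i (c • w)
  c2 : ∀ i ∈ L, ∀ h : H, ∀ y, y ≠ 0 → h • i y = i y → ∀ z, h • i z = i z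
  tr : ∀ i ∈ L, ∀ j ∈ L, ∃ h : H, ∃ c : K, c ≠ 0 ∧ ∀ y, j y = h • i (c • y)

variable {K : Type*} [Field K] {Y : Type*} [AddCommGroup Y] [Module K Y] {M : Type*} [AddCommGroup M] {H : Type*}
  [Group H] [DistribMulAction H M] {L : Set (Y →+ M)}

namespace TV

variable (h : TV K H L)
include h

theorem twoY (y : Y) : y + y = 0 := by
  have h1 : ((1 : K) + 1) • y = 0 := by rw [h.char, zero_smul]
  rwa [add_smul, one_smul] at h1

theorem negY (y : Y) : -y = y := neg_eq_of_add_eq_zero_left (h.twoY y)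

theorem negM (m : M) : -m = m := neg_eq_of_add_eq_zero_left (h.two m)

theorem sub_eqM (m n : M) : m - n = m + n := by rw [sub_eq_add_neg, h.negM]

theorem eq_of_addM {m n : M} (h1 : m + n = 0) : m = n := by
  rw [← sub_eq_zero, h.sub_eqM, h1]

theorem eq_of_addY {y z : Y} (h1 : y + z = 0) : y = z := by
  rw [← sub_eq_zero, sub_eq_add_neg, h.negY, h1]

theorem injective {i : Y →+ M} (hi : i ∈ L) : Function.Injective i :=
  (injective_iff_map_eq_zero i).2 (h.inj i hi)

/-- `(1 + i t)² = 1` -/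
theorem sq {i : Y →+ M} {t : M →+ Y} (ht : ∀ y, t (i y) = 0) {x : H} (hx : ∀ m, x • m = m + i (t m)) : x * x = 1 := by
  refine h.faith _ fun m => ?_
  rw [mul_smul, hx m, smul_add, hx m, hx (i (t m)), ht, map_zero, add_zero, add_assoc, h.two, add_zero]

/-- `t ∘ j` is zero or injective -/
theorem dich {i j : Y →+ M} (hi : i ∈ L) (hj : j ∈ L) {t : M →+ Y} (ht : t ∈ Th H i) :
    (∀ y, t (j y) = 0) ∨ ∀ y, t (j y) = 0 → y = 0 := by
  by_cases h0 : ∀ y, t (j y) = 0 → y = 0
  · exact Or.inr h0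
  · left
    push Not at h0
    obtain ⟨y, hy, hy0⟩ := h0
    obtain ⟨-, x, hx⟩ := ht
    have h1 : x • j y = j y := by rw [hx, hy, map_zero, add_zero]
    intro z
    have h2 := h.c2 j hj x y hy0 h1 z
    rw [hx] at h2
    exact h.inj i hi _ (by simpa using h2)

/-- **the product**: `s ∘ i = 0` implies `t ∘ j ∘ s ∈ Θ_i` -/
theorem mem_comp {i j : Y →+ M} {t s : M →+ Y} (ht : t ∈ Th H i) (hs : s ∈ Th H j) (h0 : ∀ y, s (i y) = 0) :
    t.comp (j.comp s) ∈ Th H i := by
  obtain ⟨ht0, x, hx⟩ := ht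
  obtain ⟨hs0, x', hx'⟩ := hs
  refine ⟨fun y => ?_, x * x' * (x * x'), fun m => ?_⟩
  · change t (j (s (i y))) = 0
    rw [h0, map_zero, map_zero]
  · have e : ∀ m : M, (x * x') • m = m + j (s m) + i (t m) + i (t (j (s m))) := by
      intro m
      rw [mul_smul, hx' m, smul_add, hx m, hx (j (s m))]
      abel
    rw [mul_smul, e m, smul_add, smul_add, smul_add, e m, e (j (s m)), e (i (t m)), e (i (t (j (s m))))]
    simp only [ht0, hs0, h0, map_zero, add_zero]
    change _ = m + i (t (j (s m)))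
    have e1 := h.two (j (s m))
    have e2 := h.two (i (t m))
    have e3 := h.two (i (t (j (s m))))
    calc m + j (s m) + i (t m) + i (t (j (s m))) + (j (s m) + i (t (j (s m)))) + i (t m) + i (t (j (s m)))
        = m + i (t (j (s m))) + (j (s m) + j (s m)) + (i (t m) + i (t m)) +
          (i (t (j (s m))) + i (t (j (s m)))) := by abel
      _ = m + i (t (j (s m))) := by rw [e1, e2, e3, add_zero, add_zero, add_zero]

/-- the cardinality of `Θ_i` does not depend on `i` -/
theorem card_le [Finite M] [Finite Y] {i j : Y →+ M} (hi : i ∈ L) (hj : j ∈ L) :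
    Nat.card (Th H i) ≤ Nat.card (Th H j) := by
  obtain ⟨g, c, hc, hg⟩ := h.tr i hi j hj
  have hfin : Finite (M →+ Y) := Finite.of_injective (fun f : M →+ Y => (f : M → Y)) DFunLike.coe_injective
  let F : (M →+ Y) → (M →+ Y) := fun t =>
    { toFun := fun m => c⁻¹ • t (g⁻¹ • m)
      map_zero' := by rw [smul_zero, map_zero, smul_zero]
      map_add' := fun m n => by rw [smul_add, map_add, smul_add] }
  have hF : ∀ t m, F t m = c⁻¹ • t (g⁻¹ • m) := fun _ _ => rfl
  have hmem : ∀ t ∈ Th H i, F t ∈ Th H j := by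
    rintro t ⟨ht0, x, hx⟩
    refine ⟨fun y => ?_, g * x * g⁻¹, fun m => ?_⟩
    · rw [hF, hg, inv_smul_smul, ht0, smul_zero]
    · rw [mul_smul, mul_smul, hx, smul_add, smul_inv_smul, hF, hg, smul_smul, mul_inv_cancel₀ hc, one_smul]
  refine Nat.card_le_card_of_injective (fun t : Th H i => (⟨F t, hmem t t.2⟩ : Th H j)) fun t t' htt => ?_
  apply Subtype.ext
  have h1 : F t = F t' := congrArg Subtype.val htt
  ext m
  have h2 := DFunLike.congr_fun h1 (g • m)
  rw [hF, hF, inv_smul_smul] at h2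
  have h3 := congrArg (fun y => c • y) h2
  simpa only [smul_smul, mul_inv_cancel₀ hc, one_smul] using h3

/-- **(2) MUTUALITY** -/
theorem exists_mut [Finite M] [Finite Y] {i j : Y →+ M} (hi : i ∈ L) (hj : j ∈ L) {t : M →+ Y} (ht : t ∈ Th H i)
    {y₀ : Y} (h0 : t (j y₀) ≠ 0) : ∃ s ∈ Th H j, ∃ y, s (i y) ≠ 0 := by
  by_contra hcon
  push Not at hcon
  have hfin : Finite (M →+ Y) := Finite.of_injective (fun f : M →+ Y => (f : M → Y)) DFunLike.coe_injective
  have hinj : ∀ y, t (j y) = 0 → y = 0 := (h.dich hi hj ht).resolve_left fun h1 => h0 (h1 y₀)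
  have hb : Function.Bijective (fun s : Th H j =>
      (⟨t.comp (j.comp s), h.mem_comp ht s.2 (hcon s s.2)⟩ : Th H i)) := by
    refine Function.Injective.bijective_of_nat_card_le (fun s s' hss => ?_) (h.card_le hi hj)
    apply Subtype.ext
    have h1 : t.comp (j.comp (s : M →+ Y)) = t.comp (j.comp (s' : M →+ Y)) := congrArg Subtype.val hss
    ext m
    have h2 : t (j ((s : M →+ Y) m)) = t (j ((s' : M →+ Y) m)) := DFunLike.congr_fun h1 m
    rw [← sub_eq_zero, ← map_sub, ← map_sub] at h2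
    exact sub_eq_zero.1 (hinj _ h2)
  obtain ⟨s, hs⟩ := hb.2 ⟨t, ht⟩
  have h1 : t.comp (j.comp (s : M →+ Y)) = t := congrArg Subtype.val hs
  apply h0
  have h2 : t (j ((s : M →+ Y) (j y₀))) = t (j y₀) := DFunLike.congr_fun h1 (j y₀)
  rw [← h2, s.2.1, map_zero, map_zero]

end TV

end Cfsg.Agent.Omega.NO3b.TVq
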