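import Cfsg.Agent.Omega.NO3b.TVq.Def

/-!
# THEOREM TV_q (#21557 of helper126), part 2: (1) PAIRS

* `TV.pair` : **(1)**: `t ∈ Θ_i`, `s ∈ Θ_j`, `γ = t ∘ j`, `δ = s ∘ i` not zero: there are `n` and `u ≠ 0` in `K` with
  `(x x')ⁿ • i y = j (u y)`, `s m = u t (x x')ⁿ.. `, in particular `δ y = u γ (u y)`.
-/

set_option autoImplicit false

namespace Cfsg.Agent.Omega.NO3b.TVq.TV

variable {K : Type*} [Field K] {Y : Type*} [AddCommGroup Y] [Module K Y] {M : Type*} [AddCommGroup M] {H : Type*}
  [Group H] [DistribMulAction H M] {L : Set (Y →+ M)} (h : TV K H L)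
include h

/-- a group element commuting with `x = 1 + i t` and of order 2 fixes the point of `i` -/
theorem fix_of_comm {i : Y →+ M} (hi : i ∈ L) {t : M →+ Y} {x z : H} (hx : ∀ m, x • m = m + i (t m))
    (hsur : ∀ y, ∃ m, t m = y) (hz : z * z = 1) (hc : x * z = z * x) : ∀ y, z • i y = i y := by
  obtain ⟨i', hi', hz'⟩ := h.conj i hi z
  have key : ∀ m, z • i (t m) = i (t (z • m)) := by
    intro m
    have h1 : z • (x • m) = x • (z • m) := by rw [← mul_smul, ← mul_smul, hc]
    rw [hx, hx, smul_add] at h1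
    exact add_left_cancel h1
  intro y
  by_cases hy : y = 0
  · rw [hy, map_zero, smul_zero]
  · obtain ⟨m, hm⟩ := hsur y
    have h1 : i' y = i (t (z • m)) := by rw [hz', ← hm, key]
    have h2 : t (z • m) ≠ 0 := by
      intro h3
      rw [h3, map_zero] at h1
      exact hy (h.inj i' hi' y h1)
    obtain ⟨c, hc0, hc1⟩ := h.meet i hi i' hi' _ _ h2 h1.symm
    have h3 : i y = i (c • c • y) := by
      have e : z • (z • i y) = i y := by rw [← mul_smul, hz, one_smul]
      rw [← hz', hc1, ← hz', hc1] at e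
      exact e.symm
    have h4 : y = c • c • y := h.injective hi h3
    have h5 : c = 1 := by
      have h6 : (c * c + 1) • y = 0 := by
        rw [add_smul, mul_smul, ← h4, one_smul, h.twoY]
      have h7 : c * c + 1 = 0 := (smul_eq_zero.1 h6).resolve_right hy
      have h8 : (c + 1) * (c + 1) = 0 := by
        have : (c + 1) * (c + 1) = (c * c + 1) + (1 + 1) * c := by ring
        rw [this, h7, h.char, zero_mul, add_zero]
      have h9 : c + 1 = 0 := by simpa using h8
      calc c = (c + 1) - 1 := by ring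
        _ = (c + 1) + (1 - (1 + 1)) := by ring
        _ = 1 := by rw [h9, h.char]; ring
    rw [← hz', hc1, h5, one_smul]

/-- **(1) PAIRS** -/
theorem pair [Finite H] [Finite Y] {i j : Y →+ M} (hi : i ∈ L) (hj : j ∈ L) {t s : M →+ Y} (ht0 : ∀ y, t (i y) = 0)
    (hs0 : ∀ y, s (j y) = 0) {x x' : H} (hx : ∀ m, x • m = m + i (t m)) (hx' : ∀ m, x' • m = m + j (s m))
    {y₀ y₁ : Y} (hg : t (j y₀) ≠ 0) (hd : s (i y₁) ≠ 0) :
    ∃ (n : ℕ) (u : K), u ≠ 0 ∧ (∀ y, (x * x') ^ n • i y = j (u • y)) ∧ ∀ y, s (i y) = u • t (j (u • y)) := by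
  have gi : Function.Injective (fun y => t (j y)) := by
    have h1 := (h.dich hi hj ⟨ht0, x, hx⟩).resolve_left fun h1 => hg (h1 y₀)
    intro a b hab
    have h2 : t (j (a - b)) = 0 := by rw [map_sub, map_sub]; exact sub_eq_zero.2 hab
    exact sub_eq_zero.1 (h1 _ h2)
  have di : Function.Injective (fun y => s (i y)) := by
    have h1 := (h.dich hj hi ⟨hs0, x', hx'⟩).resolve_left fun h1 => hd (h1 y₁)
    intro a b hab
    have h2 : s (i (a - b)) = 0 := by rw [map_sub, map_sub]; exact sub_eq_zero.2 hab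
    exact sub_eq_zero.1 (h1 _ h2)
  have gs : Function.Surjective (fun y => t (j y)) := Finite.surjective_of_injective gi
  have ds : Function.Surjective (fun y => s (i y)) := Finite.surjective_of_injective di
  have hx1 := h.sq ht0 hx
  have hx1' := h.sq hs0 hx'
  set c := x * x' with hc
  have hxi : x⁻¹ = x := inv_eq_of_mul_eq_one_left hx1
  have hxi' : x'⁻¹ = x' := inv_eq_of_mul_eq_one_left hx1'
  have hci : c⁻¹ = x' * x := by rw [hc, mul_inv_rev, hxi, hxi']
  have hxc : x * c = x' := by rw [hc, ← mul_assoc, hx1, one_mul]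
  have hcx' : c * x' = x := by rw [hc, mul_assoc, hx1', mul_one]
  have hx_c : x * c * x⁻¹ = c⁻¹ := by rw [hxc, hxi, hci]
  have hx'_c : x' * c * x'⁻¹ = c⁻¹ := by rw [hxi', mul_assoc, hcx', hci]
  have hpow : ∀ n : ℕ, x * c ^ n * x⁻¹ = (c ^ n)⁻¹ := fun n => by
    rw [← inv_pow, ← hx_c, conj_pow]
  have hpow' : ∀ n : ℕ, x' * c ^ n * x'⁻¹ = (c ^ n)⁻¹ := fun n => by
    rw [← inv_pow, ← hx'_c, conj_pow]
  have hn : 0 < orderOf c := orderOf_pos c
  rcases Nat.even_or_odd (orderOf c) with ⟨r, hr⟩ | ⟨r, hr⟩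
  · -- even order
    exfalso
    have hz1 : c ^ r ≠ 1 := by
      intro h1
      have := orderOf_dvd_of_pow_eq_one h1
      have := Nat.le_of_dvd (by omega) this
      omega
    have hz2 : c ^ r * c ^ r = 1 := by rw [← pow_add, ← hr, pow_orderOf_eq_one]
    have hzi : (c ^ r)⁻¹ = c ^ r := inv_eq_of_mul_eq_one_left hz2
    have hcx : x * c ^ r = c ^ r * x := by
      have := hpow r
      rw [hzi, mul_inv_eq_iff_eq_mul] at this
      exact this
    have hcx1 : x' * c ^ r = c ^ r * x' := by
      have := hpow' r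
      rw [hzi, mul_inv_eq_iff_eq_mul] at this
      exact this
    have f1 := h.fix_of_comm hi hx (fun y => let ⟨w, hw⟩ := gs y; ⟨j w, hw⟩) hz2 hcx
    have f2 := h.fix_of_comm hj hx' (fun y => let ⟨w, hw⟩ := ds y; ⟨i w, hw⟩) hz2 hcx1
    apply hz1
    refine h.faith _ fun m => ?_
    obtain ⟨b, hb⟩ := gs (t m)
    obtain ⟨a, ha⟩ := ds (s m)
    have hb' : t (j b) = t m := hb
    have ha' : s (i a) = s m := ha
    have t0 : t (m + i a + j b) = 0 := by rw [map_add, map_add, ht0, hb', add_zero, h.twoY]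
    have s0 : s (m + i a + j b) = 0 := by rw [map_add, map_add, hs0, ha', add_zero, h.twoY]
    have e1 : x • (m + i a + j b) = m + i a + j b := by rw [hx, t0, map_zero, add_zero]
    have e2 : x' • (m + i a + j b) = m + i a + j b := by rw [hx', s0, map_zero, add_zero]
    have e3 : c • (m + i a + j b) = m + i a + j b := by rw [hc, mul_smul, e2, e1]
    have e4 : ∀ n : ℕ, c ^ n • (m + i a + j b) = m + i a + j b := by
      intro n
      induction n with
      | zero => rw [pow_zero, one_smul]
      | succ n ih => rw [pow_succ, mul_smul, e3, ih]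
    have e5 := e4 r
    rw [smul_add, smul_add, f1, f2] at e5
    exact add_right_cancel (add_right_cancel e5)
  · -- odd order `2 r + 1`
    have hcn : c ^ (2 * r + 1) = 1 := by rw [← hr, pow_orderOf_eq_one]
    set g := c ^ r with hgd
    have hgx : g * x * g⁻¹ = x' := by
      have h1 : x * g * x⁻¹ = g⁻¹ := hpow r
      have h2 : g * x = x * g⁻¹ := by
        rw [← h1, hxi]
        simp only [mul_assoc]
        rw [← mul_assoc x x, hx1, one_mul]
      have h3 : g * g * c = 1 := by rw [hgd, ← pow_add, ← pow_succ, ← hcn]; congr 1; ring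
      have h4 : g⁻¹ * g⁻¹ = c := by
        rw [← mul_inv_rev]
        exact inv_eq_of_mul_eq_one_right h3
      rw [h2, mul_assoc, h4, hxc]
    have hgx2 : x * g * x = g⁻¹ := by
      have h1 := hpow r
      rwa [hxi] at h1
    have hd2 : g * x * (g * x) = 1 := by
      rw [mul_assoc, ← mul_assoc x g x, hgx2, mul_inv_cancel]
    have hdx : g * x * x = x' * (g * x) := by
      rw [← hgx]
      simp only [mul_assoc]
      rw [inv_mul_cancel_left, hx1, mul_one]
    set d := g * x with hdd
    have hdi : ∀ y, d • i y = g • i y := fun y => by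
      rw [hdd, mul_smul, hx, ht0, map_zero, add_zero]
    obtain ⟨i', hi', hi'1⟩ := h.conj i hi d
    have key : ∀ m, d • i (t m) = j (s (d • m)) := by
      intro m
      have h1 : d • (x • m) = x' • (d • m) := by rw [← mul_smul, ← mul_smul, hdx]
      rw [hx, hx', smul_add] at h1
      exact add_left_cancel h1
    have hu : ∃ u : K, u ≠ 0 ∧ ∀ w, i' w = j (u • w) := by
      have h1 : i' (t (j y₀)) = j (s (d • j y₀)) := by rw [hi'1, key]
      have h2 : s (d • j y₀) ≠ 0 := by
        intro h3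
        rw [h3, map_zero] at h1
        exact hg (h.inj i' hi' _ h1)
      exact h.meet j hj i' hi' _ _ h2 h1.symm
    obtain ⟨u, hu0, hu⟩ := hu
    refine ⟨r, u, hu0, fun y => ?_, ?_⟩
    · rw [← hgd, ← hdi, ← hi'1, hu]
    · have h1 : ∀ m, s m = u • t (d • m) := by
        intro m
        have e1 : x' * d = d * x := hdx.symm
        have e2 : x' • m = d • (x • (d • m)) := by
          rw [← mul_smul, ← mul_smul, mul_assoc, ← mul_assoc d x d, ← e1, mul_assoc, hd2, mul_one]
        rw [hx', hx, smul_add, ← mul_smul, hd2, one_smul, ← hi'1, hu] at e2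
        exact h.injective hj (add_left_cancel e2)
      intro y
      rw [h1, ← hi'1, hu]

end Cfsg.Agent.Omega.NO3b.TVq.TV
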