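import Cfsg.Agent.Omega.NO3b.TVq.Pair

/-!
# THEOREM TV_q (#21557 of helper126), part 3: (4), (5)

* `semi`, `semi_lin` : additive maps `g` of `Y` with `g (s y) = s' g y` for many pairs `(s, s')`;
* `Pl` : a plane `p : K × K → labels` with (PL);
* `TV.scalar` : **(4)**: `η ∈ Θ_e` for all points `e` of a plane: `η ∘ j` is a scalar for every label `j`;
* `TV.false_of` : **(5)**: contradiction if `M` is generated by the vectors of label `y`, for all `y ≠ 0`, and `dim_K Y ≥ 2`.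
-/

set_option autoImplicit false

namespace Cfsg.Agent.Omega.NO3b.TVq

variable {K : Type*} [Field K] {Y : Type*} [AddCommGroup Y] [Module K Y] {M : Type*} [AddCommGroup M] {H : Type*}
  [Group H] [DistribMulAction H M] {L : Set (Y →+ M)}

/-- `g` is semilinear if it is so for pairs `(s, s')` with arbitrary product `s s'` -/
theorem semi [Finite K] {g : Y →+ Y} (hg : ∀ y, g y = 0 → y = 0) {y₀ : Y} (hy₀ : y₀ ≠ 0)
    (hc : ∀ c : K, c ≠ 0 → ∃ s s' : K, s * s' = c ∧ ∀ y, g (s • y) = s' • g y) :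
    ∃ τ : K → K, (∀ s y, g (s • y) = τ s • g y) ∧ Function.Injective τ ∧ (∀ c : K, c ≠ 0 → ∃ s, s * τ s = c) ∧
      ∀ a b, τ (a * b) = τ a * τ b := by
  have hgy : g y₀ ≠ 0 := fun h => hy₀ (hg _ h)
  have uq : ∀ a b : K, a • g y₀ = b • g y₀ → a = b := fun a b hab => smul_left_injective K hgy hab
  choose f f' hf hff using hc
  have hall : ∀ s : K, ∃ s' : K, ∀ y, g (s • y) = s' • g y := by
    intro s
    by_cases hs : s = 0
    · exact ⟨0, fun y => by rw [hs, zero_smul, zero_smul, map_zero]⟩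
    · let F : {c : K // c ≠ 0} → {c : K // c ≠ 0} := fun c => ⟨f c c.2, fun h0 => c.2 (by
        rw [← hf c c.2, h0, zero_mul])⟩
      have hF : Function.Injective F := by
        intro c c' hcc
        have h1 : f c c.2 = f c' c'.2 := congrArg Subtype.val hcc
        have h2 : f' c c.2 = f' c' c'.2 := uq _ _ (by rw [← hff, ← hff, h1])
        apply Subtype.ext
        rw [← hf c c.2, ← hf c' c'.2, h1, h2]
      obtain ⟨c, hc⟩ := Finite.surjective_of_injective hF ⟨s, hs⟩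
      have h1 : f c c.2 = s := congrArg Subtype.val hc
      exact ⟨f' c c.2, fun y => by rw [← h1, hff]⟩
  choose τ hτ using hall
  refine ⟨τ, hτ, fun a b hab => ?_, fun c hc => ⟨f c hc, ?_⟩, fun a b => ?_⟩
  · have h1 : g (a • y₀) = g (b • y₀) := by rw [hτ, hτ, hab]
    have h2 : g ((a - b) • y₀) = 0 := by rw [sub_smul, map_sub, h1, sub_self]
    exact sub_eq_zero.1 ((smul_eq_zero.1 (hg _ h2)).resolve_right hy₀)
  · have h1 : τ (f c hc) = f' c hc := uq _ _ (by rw [← hτ, hff])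
    rw [h1, hf]
  · exact uq _ _ (by rw [← hτ, mul_smul, hτ, hτ, mul_smul])

/-- `g` is linear if moreover `g²` is a scalar -/
theorem semi_lin {g : Y →+ Y} (hg : ∀ y, g y = 0 → y = 0) {y₀ : Y} (hy₀ : y₀ ≠ 0) {τ : K → K}
    (hτ : ∀ s y, g (s • y) = τ s • g y) (hsur : ∀ c : K, c ≠ 0 → ∃ s, s * τ s = c)
    (hmul : ∀ a b, τ (a * b) = τ a * τ b) {s₀ : K} (h2 : ∀ y, g (g y) = s₀ • y) (s : K) (y : Y) :
    g (s • y) = s • g y := by
  have hgy : g y₀ ≠ 0 := fun h => hy₀ (hg _ h)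
  have hgg : g (g y₀) ≠ 0 := fun h => hgy (hg _ h)
  have h3 : ∀ a, τ (τ a) = a := by
    intro a
    apply smul_left_injective K hgg
    change τ (τ a) • g (g y₀) = a • g (g y₀)
    rw [← hτ, ← hτ, h2, h2, smul_comm]
  by_cases hs : s = 0
  · rw [hs, zero_smul, zero_smul, map_zero]
  · obtain ⟨a, ha⟩ := hsur s hs
    have h4 : τ s = s := by rw [← ha, hmul, h3, mul_comm]
    rw [hτ, h4]

/-- a plane: the labels of its points, with (PL) -/
structure Pl (H : Type*) [Group H] [DistribMulAction H M] (L : Set (Y →+ M)) (p : K × K →+ Y →+ M) : Prop where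
  mem : ∀ e, e ≠ 0 → p e ∈ L
  sm : ∀ (c : K) (e : K × K) (y : Y), p (c • e) y = p e (c • y)
  pl : ∀ e, e ≠ 0 → ∀ t ∈ Th H (p e), ∀ e', ∃ c : K, ∀ y, t (p e' y) = c • y

namespace TV

variable (h : TV K H L)
include h

/-- **(4)** -/
theorem scalar [Finite H] [Finite Y] [Finite M] [Finite K] {p : K × K →+ Y →+ M} (hp : Pl H L p) {η : M →+ Y}
    (hη : ∀ e, e ≠ 0 → η ∈ Th H (p e)) {j : Y →+ M} (hj : j ∈ L) : ∃ c : K, ∀ y, η (j y) = c • y := by
  by_cases h0 : ∀ y, η (j y) = 0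
  · exact ⟨0, fun y => by rw [h0, zero_smul]⟩
  push Not at h0
  obtain ⟨y₀, hy₀⟩ := h0
  have he₁ : ((1 : K), (0 : K)) ≠ 0 := fun h1 => one_ne_zero (congrArg Prod.fst h1)
  obtain ⟨φ, hφ, y₁, hy₁⟩ := h.exists_mut (hp.mem _ he₁) hj (hη _ he₁) hy₀
  have hy₁0 : y₁ ≠ 0 := fun h1 => hy₁ (by rw [h1, map_zero, map_zero])
  have hφ' := hφ
  obtain ⟨hφ0, x', hx'⟩ := hφ'
  set g : Y →+ Y := η.comp j with hgdef
  have hgv : ∀ y, g y = η (j y) := fun _ => rfl
  have hg : ∀ y, g y = 0 → y = 0 :=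
    (h.dich (hp.mem _ he₁) hj (hη _ he₁)).resolve_left fun h1 => hy₀ (h1 y₀)
  have hpair : ∀ e, e ≠ 0 → ∀ y', φ (p e y') ≠ 0 → ∀ x : H, (∀ m, x • m = m + p e (η m)) →
      ∃ (n : ℕ) (u : K), u ≠ 0 ∧ (∀ y, (x * x') ^ n • p e y = j (u • y)) ∧ ∀ y, φ (p e y) = u • g (u • y) := by
    intro e he y' hy' x hx
    exact h.pair (hp.mem e he) hj (hη e he).1 hφ0 hx hx' hy₀ hy'
  -- semilinearity
  obtain ⟨τ, hτ, hτi, hsur, hmul⟩ := semi (K := K) hg hy₁0 (fun c hc => by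
    obtain ⟨-, x₁, hx₁⟩ := hη _ he₁
    obtain ⟨-, u₁, hu₁, -, hd₁⟩ := hpair _ he₁ y₁ hy₁ x₁ hx₁
    have hce : c • ((1 : K), (0 : K)) ≠ 0 := smul_ne_zero hc he₁
    obtain ⟨-, xc, hxc⟩ := hη _ hce
    have hcy : φ (p (c • ((1 : K), (0 : K))) (c⁻¹ • y₁)) ≠ 0 := by
      rw [hp.sm, smul_inv_smul₀ hc]; exact hy₁
    obtain ⟨-, uc, huc, -, hdc⟩ := hpair _ hce _ hcy xc hxc
    refine ⟨u₁ * c * uc⁻¹, u₁⁻¹ * uc, ?_, fun w => ?_⟩
    · field_simp
    · have h1 := hdc (uc⁻¹ • w)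
      rw [hp.sm, hd₁, smul_inv_smul₀ huc, smul_smul, smul_smul] at h1
      rw [mul_smul u₁⁻¹ uc, ← h1, inv_smul_smul₀ hu₁])
  have hτs : Function.Surjective τ := Finite.surjective_of_injective hτi
  -- `φ ∘ p e = g ∘ (f e)`
  have hf : ∀ e, ∃ c : K, ∀ y, φ (p e y) = g (c • y) := by
    intro e
    by_cases hz : ∀ y, φ (p e y) = 0
    · exact ⟨0, fun y => by rw [hz, zero_smul, map_zero]⟩
    · push Not at hz
      obtain ⟨y', hy'⟩ := hz
      have he : e ≠ 0 := fun h1 => hy' (by rw [h1, map_zero, AddMonoidHom.zero_apply, map_zero])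
      obtain ⟨-, x, hx⟩ := hη e he
      obtain ⟨-, u, hu, -, hd⟩ := hpair e he y' hy' x hx
      obtain ⟨v, hv⟩ := hτs u
      exact ⟨v * u, fun y => by rw [hd, mul_smul, hτ v, hv]⟩
  choose f hf using hf
  have ginj : Function.Injective g := (injective_iff_map_eq_zero g).2 hg
  have uq : ∀ a b : K, (∀ y, g (a • y) = g (b • y)) → a = b := fun a b hab =>
    smul_left_injective K hy₁0 (ginj (hab y₁))
  have fadd : ∀ e e', f (e + e') = f e + f e' := fun e e' => uq _ _ fun y => by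
    rw [← hf, add_smul, map_add g, ← hf, ← hf, map_add p, AddMonoidHom.add_apply, map_add φ]
  have fsm : ∀ (c : K) e, f (c • e) = c * f e := fun c e => uq _ _ fun y => by
    rw [← hf, hp.sm, hf, smul_smul, mul_comm]
  have f1 : f ((1 : K), (0 : K)) ≠ 0 := by
    intro h1
    apply hy₁
    rw [hf, h1, zero_smul, map_zero]
  set a₁ := f ((1 : K), (0 : K)) with ha₁
  set a₂ := f ((0 : K), (1 : K)) with ha₂
  have he0 : (a₂, a₁) ≠ (0 : K × K) := fun h1 => f1 (congrArg Prod.snd h1)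
  have hfe0 : f (a₂, a₁) = 0 := by
    have e : ((a₂, a₁) : K × K) = a₂ • ((1 : K), (0 : K)) + a₁ • ((0 : K), (1 : K)) := by
      ext <;> simp
    rw [e, fadd, fsm, fsm, ← ha₁, ← ha₂, mul_comm a₁ a₂, ← two_mul, ← one_add_one_eq_two, h.char, zero_mul]
  have hψ := h.mem_comp (hη _ he0) hφ (fun y => by rw [hf, hfe0, zero_smul, map_zero])
  obtain ⟨c, hc⟩ := hp.pl _ he0 _ hψ ((1 : K), (0 : K))
  have hc' : ∀ y, g (g (a₁ • y)) = c • y := fun y => by
    rw [← hc y, ha₁, ← hf]; rfl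
  have hgg : ∀ y, g (g y) = (c * a₁⁻¹) • y := fun y => by
    have h1 := hc' (a₁⁻¹ • y)
    rwa [smul_inv_smul₀ f1, smul_smul] at h1
  have hlin : ∀ (s : K) y, g (s • y) = s • g y := semi_lin hg hy₁0 hτ hsur hmul hgg
  -- the dihedral group
  obtain ⟨hη0, x, hx⟩ := hη _ he₁
  obtain ⟨n, u, hu, hn, -⟩ := hpair _ he₁ y₁ hy₁ x hx
  have hfix : ∀ y, x • p ((1 : K), (0 : K)) y = p ((1 : K), (0 : K)) y := fun y => by
    rw [hx, hη0, map_zero, add_zero]
  have hfix' : ∀ y, x' • j y = j y := fun y => by rw [hx', hφ0, map_zero, add_zero]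
  have claim : ∀ n : ℕ, ∃ α β : K, ∀ a, (x * x') ^ n • p ((1 : K), (0 : K)) a =
      p ((1 : K), (0 : K)) (β • a) + j (α • g (a₁ • a)) := by
    intro n
    induction n with
    | zero => exact ⟨0, 1, fun a => by rw [pow_zero, one_smul, one_smul, zero_smul, map_zero, add_zero]⟩
    | succ n ih =>
      obtain ⟨α, β, ih⟩ := ih
      refine ⟨α + β, β + β * c + α * c, fun a => ?_⟩
      rw [pow_succ', mul_smul, ih, smul_add, mul_smul, mul_smul, hfix', hx', hf, ← ha₁, smul_add, hfix, hx (j _),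
        hx (j _), ← hgv, ← hgv]
      have e1 : g (a₁ • β • a) = β • g (a₁ • a) := by rw [smul_comm, hlin]
      rw [e1, hlin β, hlin α, hc', smul_smul, smul_smul]
      simp only [add_smul, map_add]
      abel
  obtain ⟨α, β, hαβ⟩ := claim n
  have key : ∀ a, α • g (a₁ • a) = u • a := by
    intro a
    have h1 : p ((1 : K), (0 : K)) (β • a) + j (α • g (a₁ • a)) = j (u • a) := by rw [← hαβ, hn]
    have h2 := congrArg η h1
    rw [map_add, hη0, zero_add] at h2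
    exact ginj h2
  have hα : α ≠ 0 := by
    rintro rfl
    have := key y₁
    rw [zero_smul] at this
    exact (smul_ne_zero hu hy₁0) this.symm
  refine ⟨a₁⁻¹ * α⁻¹ * u, fun y => ?_⟩
  rw [← hgv, mul_smul, mul_smul, ← key y, inv_smul_smul₀ hα, hlin, inv_smul_smul₀ f1]

/-- **THEOREM TV_q, (5)** -/
theorem false_of [Finite H] [Finite Y] [Finite M] [Finite K] {p : K × K →+ Y →+ M} (hp : Pl H L p) {η : M →+ Y}
    (hη : ∀ e, e ≠ 0 → η ∈ Th H (p e)) (hne : η ≠ 0)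
    (gen : ∀ y : Y, y ≠ 0 → AddSubgroup.closure {m | ∃ i ∈ L, m = i y} = ⊤) {y₁ y₂ : Y} (hy₁ : y₁ ≠ 0)
    (hy₂ : ∀ c : K, y₂ ≠ c • y₁) : False := by
  have hy₂0 : y₂ ≠ 0 := fun h1 => hy₂ 0 (by rw [h1, zero_smul])
  have key : ∀ y : Y, y ≠ 0 → ∀ m, ∃ c : K, η m = c • y := by
    intro y hy m
    have hm : m ∈ AddSubgroup.closure {m | ∃ i ∈ L, m = i y} := by rw [gen y hy]; trivial
    induction hm using AddSubgroup.closure_induction with
    | mem x hx =>
      obtain ⟨i, hi, rfl⟩ := hx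
      obtain ⟨c, hc⟩ := h.scalar hp hη hi
      exact ⟨c, hc y⟩
    | zero => exact ⟨0, by rw [map_zero, zero_smul]⟩
    | add a b _ _ iha ihb =>
      obtain ⟨c, hc⟩ := iha
      obtain ⟨d, hd⟩ := ihb
      exact ⟨c + d, by rw [map_add, hc, hd, add_smul]⟩
    | neg a _ iha =>
      obtain ⟨c, hc⟩ := iha
      exact ⟨-c, by rw [map_neg, hc, neg_smul]⟩
  apply hne
  ext m
  rw [AddMonoidHom.zero_apply]
  obtain ⟨c₁, h1⟩ := key y₁ hy₁ m
  obtain ⟨c₂, h2⟩ := key y₂ hy₂0 m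
  by_cases hc : c₂ = 0
  · rw [h2, hc, zero_smul]
  · exfalso
    apply hy₂ (c₂⁻¹ * c₁)
    rw [mul_smul, ← h1, h2, inv_smul_smul₀ hc]

/-- **THEOREM TV_q**: `x = 1 + p(e₁) t ∈ H`, `o ∈ H` is trivial on the plane `p` and does not commute with `x` [(3): `x`
moves `p`, LOC, not (D)], and the `k ∈ H` which are trivial modulo the plane are transitive on its labels. -/
theorem false_main [Finite H] [Finite Y] [Finite M] [Finite K] {p : K × K →+ Y →+ M} (hp : Pl H L p) {e₁ : K × K}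
    {t : M →+ Y} {x : H} (ht : ∀ y, t (p e₁ y) = 0) (hx : ∀ m, x • m = m + p e₁ (t m)) {o : H}
    (ho : ∀ e y, o • p e y = p e y) (hox : o * x * o⁻¹ ≠ x)
    (htr : ∀ e, e ≠ 0 → ∃ k : H, (∀ y, k • p e₁ y = p e y) ∧ ∀ m, ∃ e' y, k • m = m + p e' y)
    (gen : ∀ y : Y, y ≠ 0 → AddSubgroup.closure {m | ∃ i ∈ L, m = i y} = ⊤) {y₁ y₂ : Y} (hy₁ : y₁ ≠ 0)
    (hy₂ : ∀ c : K, y₂ ≠ c • y₁) : False := by
  let η : M →+ Y :=
    { toFun := fun m => t m + t (o⁻¹ • m)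
      map_zero' := by rw [smul_zero, map_zero, add_zero]
      map_add' := fun m n => by rw [smul_add, map_add, map_add]; abel }
  have hη : ∀ m, η m = t m + t (o⁻¹ • m) := fun _ => rfl
  have ho' : ∀ e y, o⁻¹ • p e y = p e y := fun e y => by rw [inv_smul_eq_iff, ho]
  have hη0 : ∀ e y, η (p e y) = 0 := fun e y => by rw [hη, ho', h.twoY]
  have hxo : ∀ m, (x * (o * x * o⁻¹)) • m = m + p e₁ (η m) := by
    intro m
    rw [mul_smul, mul_smul, mul_smul, hx (o⁻¹ • m), smul_add, smul_inv_smul, ho, smul_add, hx m, hx (p e₁ _), ht,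
      map_zero, add_zero, hη, map_add, add_assoc]
  refine h.false_of hp (η := η) (fun e he => ⟨fun y => hη0 e y, ?_⟩) ?_ gen hy₁ hy₂
  · obtain ⟨k, hk, hkm⟩ := htr e he
    refine ⟨k * (x * (o * x * o⁻¹)) * k⁻¹, fun m => ?_⟩
    obtain ⟨e', y, hm⟩ := hkm (k⁻¹ • m)
    rw [smul_inv_smul] at hm
    have e1 : η m = η (k⁻¹ • m) := by
      conv_lhs => rw [hm]
      rw [map_add, hη0, add_zero]
    rw [mul_smul, mul_smul, hxo, smul_add, smul_inv_smul, hk, e1]
  · intro h1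
    apply hox
    have h2 : x * (o * x * o⁻¹) = 1 := h.faith _ fun m => by
      rw [hxo, h1, AddMonoidHom.zero_apply, map_zero, add_zero]
    have h3 := h.sq ht hx
    exact (mul_left_cancel (h3.trans h2.symm)).symm

end TV

end Cfsg.Agent.Omega.NO3b.TVq
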